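import Cfsg.Agent.Mathieu.Schreier

/-!
The permutations that a subgroup induces on an indexed finite family, and comparison of their number with the
order of a stabiliser chain.
-/

set_option autoImplicit false

namespace CfsgLib.Leech.U43

open CfsgLib.Mathieu CfsgLib.Mathieu.Schreier
open Equiv (Perm)
open scoped Pointwise

variable {G : Type*} [Group G] {α : Type*} {n : ℕ}

/-- The members of `A` that carry the family into itself. -/
def keep (A : Subgroup G) (ρ : G →* Perm α) (f : Fin n → α) : Subgroup G :=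
  A ⊓ (MulAction.stabilizer (Perm α) (Set.range f)).comap ρ

theorem keep_maps {A : Subgroup G} {ρ : G →* Perm α} {f : Fin n → α} {g : G} (hg : g ∈ keep A ρ f)
    (j : Fin n) : ∃ k, ρ g (f j) = f k := by
  have h : ρ g • Set.range f = Set.range f := hg.2
  have hm : ρ g (f j) ∈ ρ g • Set.range f := ⟨f j, ⟨j, rfl⟩, rfl⟩
  rw [h] at hm
  obtain ⟨k, hk⟩ := hm
  exact ⟨k, hk.symm⟩

theorem mem_keep {A : Subgroup G} {ρ : G →* Perm α} {f : Fin n → α} (hf : Function.Injective f) {g : G}
    (hA : g ∈ A) (h : ∀ j, ∃ k, ρ g (f j) = f k) : g ∈ keep A ρ f := by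
  refine ⟨hA, ?_⟩
  show ρ g • Set.range f = Set.range f
  refine Set.eq_of_subset_of_ncard_le ?_ ?_ (Set.finite_range f)
  · rintro x ⟨y, ⟨j, rfl⟩, rfl⟩
    obtain ⟨k, hk⟩ := h j
    exact ⟨k, hk.symm⟩
  · rw [show ρ g • Set.range f = (fun x => ρ g x) '' Set.range f from rfl,
      Set.ncard_image_of_injective _ (ρ g).injective]

/-- The permutation of the indices. -/
noncomputable def indexPerm {A : Subgroup G} (ρ : G →* Perm α) {f : Fin n → α} (hf : Function.Injective f)
    (g : keep A ρ f) : Perm (Fin n) :=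
  Equiv.ofBijective (fun j => (keep_maps g.2 j).choose) (Finite.injective_iff_bijective.1 fun a b e => by
    refine hf ((ρ g.1).injective ?_)
    rw [(keep_maps g.2 a).choose_spec, (keep_maps g.2 b).choose_spec]
    exact congrArg f e)

theorem indexPerm_spec {A : Subgroup G} (ρ : G →* Perm α) {f : Fin n → α} (hf : Function.Injective f)
    (g : keep A ρ f) (j : Fin n) : ρ g.1 (f j) = f (indexPerm ρ hf g j) :=
  (keep_maps g.2 j).choose_spec

/-- The homomorphism to the permutations of the indices. -/
noncomputable def indexHom (A : Subgroup G) (ρ : G →* Perm α) {f : Fin n → α} (hf : Function.Injective f) :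
    keep A ρ f →* Perm (Fin n) :=
  MonoidHom.mk' (indexPerm ρ hf) fun g h => Equiv.ext fun j => hf (by
    rw [← indexPerm_spec ρ hf (g * h) j, Subgroup.coe_mul, map_mul, Equiv.Perm.mul_apply,
      indexPerm_spec ρ hf h, indexPerm_spec ρ hf g]
    rfl)

/-- The check of transversals: distinct orbit points reached by generators, and the next generators fix the base. -/
def lowOK (n : ℕ) : List Level → Bool
  | [] => true
  | L :: rest =>
    decide (L.base < n) && allBelow L.trans.length (transOK n L) &&
    decide ((L.trans.map fun t => app t.1 L.base).Nodup) &&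
    (topGens rest).all (fun g => L.gens.contains g && app g L.base == L.base) && lowOK n rest

/-- Transversals bound the order from below. -/
theorem le_card_group : ∀ (C : List Level), lowOK n C = true → HasPerms n C →
    (C.map fun L => L.trans.length).prod ≤ Nat.card (group n C)
  | [], _, _ => by rw [List.map_nil, List.prod_nil]; exact Nat.card_pos
  | L :: rest, h, ⟨hp, hps⟩ => by
    simp only [lowOK, Bool.and_eq_true, decide_eq_true_eq] at h
    obtain ⟨⟨⟨⟨hb, htr⟩, hnd⟩, hhead⟩, hok⟩ := h
    have hgen : ∀ g ∈ L.gens, InGroup (Equiv.refl (Fin n)) (group n (L :: rest)) g := fun g hg => by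
      obtain ⟨σ, r⟩ := hp g hg
      exact ⟨σ, Subgroup.subset_closure ⟨g, hg, r⟩, r⟩
    have hle : group n rest ≤ group n (L :: rest) := group_tail_le hhead
    have hfix : group n rest ≤ MulAction.stabilizer (Perm (Fin n)) (⟨L.base, hb⟩ : Fin n) := by
      refine (Subgroup.closure_le _).2 ?_
      rintro σ ⟨t, ht, r⟩
      have := List.all_eq_true.1 hhead t ht
      simp only [Bool.and_eq_true, beq_iff_eq] at this
      exact Fin.ext ((Rep.app_eq r _).symm.trans this.2)
    choose σ hσ r rinv using trans_spec htr hgen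
    let f : Fin L.trans.length × group n rest → group n (L :: rest) := fun p =>
      ⟨σ _ (List.getElem_mem p.1.2) * p.2.1, mul_mem (hσ _ _) (hle p.2.2)⟩
    have hf : Function.Injective f := by
      rintro ⟨i, k⟩ ⟨j, k'⟩ e
      have e' : σ _ (List.getElem_mem i.2) * k.1 = σ _ (List.getElem_mem j.2) * k'.1 :=
        congrArg Subtype.val e
      have hk : k.1 ⟨L.base, hb⟩ = ⟨L.base, hb⟩ := hfix k.2
      have hk' : k'.1 ⟨L.base, hb⟩ = ⟨L.base, hb⟩ := hfix k'.2
      have h1 := congrArg (fun π : Perm (Fin n) => (π ⟨L.base, hb⟩).1) e'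
      simp only [Equiv.Perm.mul_apply, hk, hk', ← Rep.app_eq (r _ _)] at h1
      have hij : i = j := Fin.ext <| (hnd.getElem_inj_iff (i := i.1) (j := j.1)
        (hi := by simp) (hj := by simp)).1 (by simpa using h1)
      subst hij
      exact Prod.ext rfl (Subtype.ext (mul_left_cancel e'))
    have := Nat.card_le_card_of_injective f hf
    rw [Nat.card_prod, Nat.card_fin] at this
    rw [List.map_cons, List.prod_cons]
    exact (Nat.mul_le_mul_left _ (le_card_group rest hok hps)).trans this

/-- The group of the chain is induced, as its generators are products of induced tables. -/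
theorem group_le_range (A : Subgroup G) (ρ : G →* Perm α) {f : Fin n → α} (hf : Function.Injective f)
    {C : List Level} {qs : List ℕ} {steps : List Step}
    (hslp : (topGens C).all (fun t => (slp n qs steps).contains t) = true)
    (hq : ∀ t ∈ qs, ∃ g ∈ A, ∀ j : Fin n, ∃ k : Fin n, k.1 = app t j.1 ∧ ρ g (f j) = f k) :
    group n C ≤ (indexHom A ρ hf).range := by
  have hqs : ∀ t ∈ qs, InGroup (Equiv.refl (Fin n)) (indexHom A ρ hf).range t := by
    intro t ht
    obtain ⟨g, hgA, hg⟩ := hq t ht
    have hk : g ∈ keep A ρ f := mem_keep hf hgA fun j => by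
      obtain ⟨k, -, e⟩ := hg j
      exact ⟨k, e⟩
    refine ⟨indexHom A ρ hf ⟨g, hk⟩, ⟨_, rfl⟩, fun j => ?_⟩
    obtain ⟨k, ek, e⟩ := hg j
    have : indexPerm ρ hf ⟨g, hk⟩ j = k := hf ((indexPerm_spec ρ hf ⟨g, hk⟩ j).symm.trans e)
    show app t j.1 = (indexPerm ρ hf ⟨g, hk⟩ j).1
    rw [this, ek]
  refine (Subgroup.closure_le _).2 ?_
  rintro σ ⟨t, ht, r⟩
  obtain ⟨τ, hτ, rτ⟩ := inGroup_slp (Equiv.refl (Fin n)) steps qs hqs t
    (List.contains_iff_mem.1 (List.all_eq_true.1 hslp t ht))
  rw [show σ = τ from Equiv.ext fun x => r.apply_eq _ (rτ x)]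
  exact hτ

/-- A finite group with the order of the chain is the group of the chain. -/
theorem equiv_group (A : Subgroup G) [Finite A] (ρ : G →* Perm α) {f : Fin n → α} (hf : Function.Injective f)
    {C : List Level} (hle : group n C ≤ (indexHom A ρ hf).range)
    (hcard : Nat.card A ≤ Nat.card (group n C)) : Nonempty (A ≃* group n C) := by
  have hfin : Finite ↥(keep A ρ f) :=
    Finite.of_injective (Subgroup.inclusion (inf_le_left : keep A ρ f ≤ A)) (Subgroup.inclusion_injective _)
  have h1 : Nat.card (group n C) ≤ Nat.card (indexHom A ρ hf).range := Subgroup.card_le_of_le hle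
  have h2 : Nat.card (indexHom A ρ hf).range ≤ Nat.card (keep A ρ f) :=
    Nat.card_le_card_of_surjective _ (indexHom A ρ hf).rangeRestrict_surjective
  have h3 : Nat.card (keep A ρ f) ≤ Nat.card A := Subgroup.card_le_of_le inf_le_left
  have hkeep : keep A ρ f = A := Subgroup.eq_of_le_of_card_ge inf_le_left (by omega)
  have hrange : group n C = (indexHom A ρ hf).range := Subgroup.eq_of_le_of_card_ge hle (by omega)
  have hbij : Function.Bijective (indexHom A ρ hf).rangeRestrict :=
    ((Nat.bijective_iff_surjective_and_card _).2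
      ⟨(indexHom A ρ hf).rangeRestrict_surjective, by omega⟩)
  exact ⟨(MulEquiv.subgroupCongr hkeep.symm).trans
    ((MulEquiv.ofBijective _ hbij).trans (MulEquiv.subgroupCongr hrange.symm))⟩

/-- A finite group whose centre fixes the family is, modulo the centre, the group of the chain. -/
theorem equiv_quotient_group [Finite G] (ρ : G →* Perm α) {f : Fin n → α} (hf : Function.Injective f)
    {C : List Level} (hle : group n C ≤ (indexHom ⊤ ρ hf).range)
    (hfix : ∀ z ∈ Subgroup.center G, ∀ j, ρ z (f j) = f j)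
    (hcard : Nat.card (G ⧸ Subgroup.center G) ≤ Nat.card (group n C)) :
    Nonempty (G ⧸ Subgroup.center G ≃* group n C) := by
  set θ := indexHom ⊤ ρ hf with hθ
  have hZ : Subgroup.center G ≤ keep ⊤ ρ f := fun z hz => mem_keep hf trivial fun j => ⟨j, hfix z hz j⟩
  have hker : (Subgroup.center G).subgroupOf (keep ⊤ ρ f) ≤ θ.ker := by
    intro z hz
    refine Equiv.ext fun j => hf ?_
    rw [show (1 : Perm (Fin n)) j = j from rfl]
    exact (indexPerm_spec ρ hf z j).symm.trans (hfix z.1 hz j)
  have e1 : Nat.card θ.ker * Nat.card θ.range = Nat.card (keep ⊤ ρ f) := by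
    rw [← Nat.card_congr (QuotientGroup.quotientKerEquivRange θ).toEquiv, mul_comm]
    exact (Subgroup.card_eq_card_quotient_mul_card_subgroup θ.ker).symm
  have e2 : Nat.card (Subgroup.center G) ≤ Nat.card θ.ker := by
    rw [← Nat.card_congr (Subgroup.subgroupOfEquivOfLe hZ).toEquiv]
    exact Subgroup.card_le_of_le hker
  have e3 : Nat.card G ≤ Nat.card (group n C) * Nat.card (Subgroup.center G) := by
    rw [Subgroup.card_eq_card_quotient_mul_card_subgroup (Subgroup.center G)]
    exact Nat.mul_le_mul_right _ hcard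
  have e4 : Nat.card (keep ⊤ ρ f) ≤ Nat.card G := Subgroup.card_le_card_group _
  have e5 : Nat.card (group n C) ≤ Nat.card θ.range := Subgroup.card_le_of_le hle
  have e6 : Nat.card G ≤ Nat.card θ.ker * Nat.card θ.range := by
    rw [mul_comm] at e3
    exact e3.trans (Nat.mul_le_mul e2 e5)
  have htop : keep ⊤ ρ f = ⊤ := Subgroup.eq_of_le_of_card_ge le_top (by rw [Subgroup.card_top]; omega)
  have hpos : 0 < Nat.card θ.range := Nat.card_pos
  have hkc : Nat.card θ.ker = Nat.card (Subgroup.center G) := by
    refine le_antisymm ?_ e2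
    by_contra hlt
    have := Nat.mul_lt_mul_of_lt_of_le (not_le.1 hlt) e5 hpos
    rw [e1, mul_comm (Nat.card (Subgroup.center G))] at this
    omega
  have hrange : group n C = θ.range := by
    have hmul : Nat.card θ.ker * Nat.card θ.range ≤ Nat.card θ.ker * Nat.card (group n C) := by
      rw [e1, hkc, mul_comm (Nat.card (Subgroup.center G))]
      exact e4.trans e3
    exact Subgroup.eq_of_le_of_card_ge hle (Nat.le_of_mul_le_mul_left hmul Nat.card_pos)
  have hkereq : θ.ker = (Subgroup.center G).subgroupOf (keep ⊤ ρ f) :=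
    (Subgroup.eq_of_le_of_card_ge hker (by
      rw [hkc, Nat.card_congr (Subgroup.subgroupOfEquivOfLe hZ).toEquiv])).symm
  let e : G ≃* keep ⊤ ρ f := Subgroup.topEquiv.symm.trans (MulEquiv.subgroupCongr htop.symm)
  refine ⟨(QuotientGroup.congr (Subgroup.center G) θ.ker e ?_).trans
    ((QuotientGroup.quotientKerEquivRange θ).trans (MulEquiv.subgroupCongr hrange.symm))⟩
  rw [hkereq]
  ext x
  refine ⟨fun ⟨z, hz, ez⟩ => ?_, fun hx => ⟨x.1, hx, Subtype.ext rfl⟩⟩
  subst ez
  exact hz

end CfsgLib.Leech.U43
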