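import Cfsg.Agent.Leech.U43.Data
import Cfsg.Agent.Leech.U43.PermImage
import Cfsg.Agent.Leech.Tree
import Cfsg.Agent.Leech.TreeData
import Cfsg.Agent.UFourThree.SevenTable

/-!
Kernel checks of the certificates for the stabiliser of a point of the McLaughlin graph.
-/

set_option autoImplicit false
set_option maxRecDepth 100000
set_option Elab.async false

namespace CfsgLib.Leech.U43

open CfsgLib.Mathieu CfsgLib.Mathieu.Schreier CfsgLib.UThree CfsgLib.UFourThree U43Data

/-- Entry of a coded vector. -/
def entry (w : List ℕ) (i : ℕ) : ℕ := w.getD i 0

/-- The image of a coded vector under a coded matrix. -/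
def imgC (A : List (List ℕ)) (w : List ℕ) : List ℕ :=
  (List.range 4).map fun i => addF (addF (addF (mulF (get4 A i 0) (entry w 0)) (mulF (get4 A i 1) (entry w 1)))
    (mulF (get4 A i 2) (entry w 2))) (mulF (get4 A i 3) (entry w 3))

/-- The combination with coefficients `a`, `b` of two coded vectors. -/
def combC (a b : ℕ) (u v : List ℕ) (i : ℕ) : ℕ := addF (mulF a (entry u i)) (mulF b (entry v i))

/-- The vector is a combination of `u` and `v`. -/
def inSpanB (u v w : List ℕ) : Bool :=
  (List.range 9).any fun a => (List.range 9).any fun b =>
    (List.range 4).all fun i => combC a b u v i == entry w i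

/-- The first basis vector of a line. -/
def fstL (j : ℕ) : List ℕ := (lines.getD j []).getD 0 []
/-- The second basis vector of a line. -/
def sndL (j : ℕ) : List ℕ := (lines.getD j []).getD 1 []

/-- The vector is outside the echelon span of `u` and `v`. -/
def outB (u v w : List ℕ) : Bool :=
  (List.range 4).any fun p => (List.range 4).any fun r =>
    entry u p == 1 && entry u r == 0 && entry v p == 0 && entry v r == 1 &&
      (List.range 4).any fun i => combC (entry w p) (entry w r) u v i != entry w i

/-- The matrix moves the lines as the table does. -/
def lineMoveB (A : List (List ℕ)) (t : ℕ) : Bool :=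
  (List.range 112).all fun j =>
    Nat.blt (app t j) 112 &&
    inSpanB (fstL (app t j)) (sndL (app t j)) (imgC A (fstL j)) &&
    inSpanB (fstL (app t j)) (sndL (app t j)) (imgC A (sndL j)) &&
    inSpanB (imgC A (fstL j)) (imgC A (sndL j)) (fstL (app t j)) &&
    inSpanB (imgC A (fstL j)) (imgC A (sndL j)) (sndL (app t j))

/-- The word moves the vectors as the table does, and fixes the three base vectors. -/
def vecMoveB (w : List Mv) (t : ℕ) : Bool :=
  w.all Mv.ok && TreeData.u43aFix.all (fun f => runMoves w f == f) &&
  (List.range 112).all fun j => w.foldl pact (pts.getD j 0) == pts.getD (app t j) 0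

theorem lineMove_ok : lineMoveB (mats.getD 0 []) (qs.getD 0 0) = true ∧
    lineMoveB (mats.getD 1 []) (qs.getD 1 0) = true := by decide +kernel

theorem vecMove_ok : vecMoveB (words.getD 0 []) (qs.getD 0 0) = true ∧
    vecMoveB (words.getD 1 []) (qs.getD 1 0) = true := by decide +kernel

theorem mats_facts : (colsOK (mats.getD 0 []) && (pow4 (mats.getD 0 []) 7 == diag4 1 1) &&
    colsOK (mats.getD 1 []) && (pow4 (mats.getD 1 []) 5 == diag4 1 1)) = true := by decide +kernel

theorem pts_facts : pts.length = 112 ∧ distinctB pts = true ∧
    pts.all (fun c => penc (dec c) == c && leechB (vec (dec c)) && decide (Cfsg.sqNorm (vec (dec c)) ≤ 80))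
      = true := by
  decide +kernel

theorem lines_entries :
    ((List.range 112).all fun j => (List.range 4).all fun i =>
      Nat.blt (entry (fstL j) i) 9 && Nat.blt (entry (sndL j) i) 9) = true := by decide +kernel

theorem lines_distinct :
    ((List.range 112).all fun j => (List.range 112).all fun k =>
      j == k || outB (fstL k) (sndL k) (fstL j) || outB (fstL k) (sndL k) (sndL j)) = true := by
  decide +kernel

theorem chain_ok : lowOK 112 chain = true := by decide +kernel

theorem chain_order : (chain.map fun L => L.trans.length).prod = 3265920 := by decide +kernel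

theorem chain_slp :
    (let env := slp 112 qs steps; chain.all fun L => L.gens.all fun t => env.contains t) = true := by
  decide +kernel

theorem qs_eq : qs = [qs.getD 0 0, qs.getD 1 0] := by decide +kernel

end CfsgLib.Leech.U43
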