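import Cfsg.Agent.Leech.U43.Checks
import Cfsg.Agent.Leech.U43.PermImage
import Cfsg.Agent.Leech.MclSimple
import Cfsg.Agent.UFourThree.Seven

/-!
The stabiliser of a point of the McLaughlin graph and `PSU 4 3` induce one and the same group on
112 objects.
-/

set_option autoImplicit false
set_option maxRecDepth 100000

namespace CfsgLib.Leech.U43

open Cfsg CfsgLib.Mathieu CfsgLib.Mathieu.Schreier CfsgLib.UThree CfsgLib.UFourThree U43Data TreeData
open Equiv (Perm)
open scoped Pointwise Matrix

attribute [local irreducible] dec penc pact slp chain steps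

/-- The stabiliser of a point of the McLaughlin graph in the McLaughlin group. -/
def pointStab : Subgroup Co0 :=
  MulAction.stabilizer Co0 bD ⊓ MulAction.stabilizer Co0 bA ⊓ MulAction.stabilizer Co0 bX

theorem card_pointStab : Nat.card pointStab = 3265920 := by
  have h := card_eq_orb_mul (MulAction.stabilizer Co0 bD ⊓ MulAction.stabilizer Co0 bA) bX
  rw [card_mcl, ncard_orb_eq (G := MulAction.stabilizer Co0 bD ⊓ MulAction.stabilizer Co0 bA) (x := bX) (S := set275) (fun y hy => hy.1.1)
    (fun g hg => ⟨⟨(g • bX).2, by rw [co0_norm]; exact base_facts.2.2.2.1.2,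
      (smul_dot_eq (show g • bD = bD from hg.1) bX).trans base_facts.2.2.2.2.2.2.2.1⟩,
      (smul_dot_eq (show g • bA = bA from hg.2) bX).trans base_facts.2.2.2.2.2.2.2.2.1⟩)
    (fun y hy => by
      obtain ⟨g, hD, hA, hX⟩ := to275 hy
      exact ⟨g, ⟨hD, hA⟩, hX⟩), ncard_set275] at h
  show Nat.card ↥(MulAction.stabilizer Co0 bD ⊓ MulAction.stabilizer Co0 bA ⊓
    MulAction.stabilizer Co0 bX) = 3265920
  omega

theorem card_chain : 3265920 ≤ Nat.card (group 112 chain) := by
  have hp : HasPerms 112 chain := by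
    have hall := List.all_eq_true.1 chain_slp
    have hq : ∀ t ∈ qs, InGroup (Equiv.refl (Fin 112)) (⊤ : Subgroup (Perm (Fin 112))) t := by
      have hg : ∀ t ∈ qs, ∀ i < 112, app t i < 112 := by decide +kernel
      have hd : ∀ t ∈ qs, ((List.range 112).map fun i => app t i).Nodup := by decide +kernel
      intro t ht
      have hinj : Function.Injective fun x : Fin 112 => (⟨app t x.1, hg t ht _ x.2⟩ : Fin 112) := fun a b e => by
        have h := (hd t ht).getElem_inj_iff (i := a.1) (j := b.1) (hi := by simp) (hj := by simp)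
        exact Fin.ext (h.1 (by simpa using congrArg Fin.val e))
      exact ⟨Equiv.ofBijective _ (Finite.injective_iff_bijective.1 hinj), trivial, fun _ => rfl⟩
    have key : ∀ L ∈ chain, ∀ g ∈ L.gens, ∃ σ : Perm (Fin 112), Rep (Equiv.refl (Fin 112)) σ g := by
      intro L hL g hg
      obtain ⟨σ, -, r⟩ := inGroup_slp (Equiv.refl (Fin 112)) steps qs hq g
        (List.contains_iff_mem.1 (List.all_eq_true.1 (hall L hL) g hg))
      exact ⟨σ, r⟩
    revert key
    generalize chain = C
    induction C with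
    | nil => exact fun _ => trivial
    | cons L rest ih =>
      exact fun key => ⟨key L List.mem_cons_self, ih fun L' h => key L' (List.mem_cons_of_mem _ h)⟩
  exact chain_order.symm.le.trans (le_card_group chain chain_ok hp)

theorem chain_top_slp : (topGens chain).all (fun t => (slp 112 qs steps).contains t) = true := by
  have h := List.all_eq_true.1 chain_slp
  revert h
  generalize chain = C
  cases C with
  | nil => exact fun _ => rfl
  | cons L rest => exact fun h => h L List.mem_cons_self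

theorem ptsL_mem (j : Fin 112) : penc (dec (pts.getD j.1 0)) = pts.getD j.1 0 ∧
    vec (dec (pts.getD j.1 0)) ∈ leechLattice ∧ sqNorm (vec (dec (pts.getD j.1 0))) ≤ 80 := by
  have hj : j.1 < pts.length := by rw [pts_facts.1]; exact j.2
  have h := List.all_eq_true.1 pts_facts.2.2 _ (List.getElem_mem hj)
  simp only [Bool.and_eq_true, beq_iff_eq, decide_eq_true_eq] at h
  rw [List.getD_eq_getElem _ _ hj]
  exact ⟨h.1.1, leechB_iff.mp h.1.2, h.2⟩

/-- The vector with index `j`. -/
def pointV (j : Fin 112) : leechLattice := ⟨vec (dec (pts.getD j.1 0)), (ptsL_mem j).2.1⟩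

theorem pointV_injective : Function.Injective pointV := by
  intro a b e
  have e' : vec (dec (pts.getD a.1 0)) = vec (dec (pts.getD b.1 0)) := congrArg Subtype.val e
  have h : pts.getD a.1 0 = pts.getD b.1 0 := by
    rw [← (ptsL_mem a).1, ← (ptsL_mem b).1, ← toList_vec (dec_length (pts.getD a.1 0)), e',
      toList_vec (dec_length (pts.getD b.1 0))]
  have ha : a.1 < pts.length := by rw [pts_facts.1]; exact a.2
  have hb : b.1 < pts.length := by rw [pts_facts.1]; exact b.2
  rw [List.getD_eq_getElem _ _ ha, List.getD_eq_getElem _ _ hb] at h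
  exact Fin.ext ((nodup_of_distinctB pts_facts.2.1).getElem_inj_iff.1 h)

theorem vec_moves {w : List Mv} {t : ℕ} (h : vecMoveB w t = true) (hlt : ∀ i < 112, app t i < 112) :
    ∃ g ∈ pointStab, ∀ j : Fin 112, ∃ k : Fin 112, k.1 = app t j.1 ∧ g • pointV j = pointV k := by
  simp only [vecMoveB, Bool.and_eq_true, List.all_eq_true, List.mem_range, beq_iff_eq] at h
  obtain ⟨⟨hok, hfix⟩, hmove⟩ := h
  have hok' : w.all Mv.ok = true := List.all_eq_true.2 hok
  obtain ⟨g, -, hg⟩ := runMoves_spec w hok'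
  refine ⟨g, ⟨⟨?_, ?_⟩, ?_⟩, fun j => ⟨⟨app t j.1, hlt _ j.2⟩, rfl, ?_⟩⟩
  · exact smul_eq_of_vec (l := co3vFix[0]) rfl hg (hfix _ (by simp [u43aFix, co3vFix]))
  · exact smul_eq_of_vec (l := co2Fix[0]) rfl hg (hfix _ (by simp [u43aFix, co2Fix]))
  · exact smul_eq_of_vec (l := mclRoot) rfl hg (hfix _ (by simp [u43aFix, mclRoot]))
  · apply Subtype.ext
    obtain ⟨hp, hm, hn⟩ := ptsL_mem j
    rw [show pointV j = ⟨_, hm⟩ from rfl, hg _ hm, ← (prun_spec w hok' _ hm hn hp).1, hmove _ j.2]
    rfl

theorem pointStab_iso_chain : Nonempty (pointStab ≃* group 112 chain) := by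
  have := co0_finite
  refine equiv_group pointStab (MulAction.toPermHom Co0 leechLattice) pointV_injective
    (group_le_range _ _ _ chain_top_slp fun t ht => ?_) (card_pointStab.le.trans card_chain)
  have hlt : ∀ t ∈ qs, ∀ i < 112, app t i < 112 := by decide +kernel
  have ht' := ht
  rw [qs_eq, List.mem_cons, List.mem_singleton] at ht
  rcases ht with rfl | rfl
  · exact vec_moves vecMove_ok.1 (hlt _ ht')
  · exact vec_moves vecMove_ok.2 (hlt _ ht')

variable {F : Type*} [Field F]

/-- The vector of a code. -/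
def cvec (ι : F) (w : List ℕ) : Fin 4 → F := fun i => val9 ι (entry w i.1)

/-- The matrix of a member. -/
def suMat4 (A : Cfsg.SU 4 F 3) : Matrix (Fin 4) (Fin 4) F :=
  ((A : Matrix.SpecialLinearGroup (Fin 4) F) : Matrix (Fin 4) (Fin 4) F)

theorem map_suMat4 (A B : Cfsg.SU 4 F 3) (S : Submodule F (Fin 4 → F)) :
    S.map (suMat4 (A * B)).mulVecLin = (S.map (suMat4 B).mulVecLin).map (suMat4 A).mulVecLin := by
  rw [← Submodule.map_comp, ← Matrix.mulVecLin_mul]
  rfl

theorem map_suMat4_one (S : Submodule F (Fin 4 → F)) :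
    S.map (suMat4 (1 : Cfsg.SU 4 F 3)).mulVecLin = S := by
  rw [show suMat4 (1 : Cfsg.SU 4 F 3) = 1 from rfl, Matrix.mulVecLin_one, Submodule.map_id]

/-- The action on subspaces. -/
def subPerm : Cfsg.SU 4 F 3 →* Perm (Submodule F (Fin 4 → F)) :=
  MonoidHom.mk' (fun A =>
    { toFun := fun S => S.map (suMat4 A).mulVecLin
      invFun := fun S => S.map (suMat4 A⁻¹).mulVecLin
      left_inv := fun S => by simp only [← map_suMat4, inv_mul_cancel, map_suMat4_one]
      right_inv := fun S => by simp only [← map_suMat4, mul_inv_cancel, map_suMat4_one] })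
    fun A B => Equiv.ext fun S => map_suMat4 A B S

/-- The line with index `j`. -/
def lineS (ι : F) (j : Fin 112) : Submodule F (Fin 4 → F) :=
  Submodule.span F {cvec ι (fstL j.1), cvec ι (sndL j.1)}

variable [CharP F 3] {ι : F} (hι : ι ^ 2 = -1)
include hι

theorem val9_combC (a b : ℕ) (u v : List ℕ) (i : Fin 4) :
    val9 ι (combC a b u v i.1) = val9 ι a * cvec ι u i + val9 ι b * cvec ι v i := by
  rw [combC, val9_addF, val9_mulF hι, val9_mulF hι]
  rfl

theorem mem_span_of_inSpanB {u v w : List ℕ} (h : inSpanB u v w = true) :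
    cvec ι w ∈ Submodule.span F {cvec ι u, cvec ι v} := by
  simp only [inSpanB, List.any_eq_true, List.all_eq_true, List.mem_range, beq_iff_eq] at h
  obtain ⟨a, -, b, -, hab⟩ := h
  refine Submodule.mem_span_pair.2 ⟨val9 ι a, val9 ι b, funext fun i => ?_⟩
  simp only [Pi.add_apply, Pi.smul_apply, smul_eq_mul]
  rw [← val9_combC hι, hab i i.2]
  rfl

theorem cvec_imgC (A : List (List ℕ)) (w : List ℕ) : cvec ι (imgC A w) = mat4 ι A *ᵥ cvec ι w := by
  funext i
  simp [cvec, imgC, entry, List.getD, Matrix.mulVec, dotProduct, Fin.sum_univ_four,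
    mat4, val9_addF, val9_mulF hι]

theorem lineS_injective : Function.Injective (lineS ι) := by
  intro a b e
  by_contra hne
  have hent : ∀ j : Fin 112, ∀ i < 4, entry (fstL j.1) i < 9 ∧ entry (sndL j.1) i < 9 := fun j i hi => by
    simpa using List.all_eq_true.1 (List.all_eq_true.1 lines_entries j.1 (List.mem_range.2 j.2)) i
      (List.mem_range.2 hi)
  have hin : ∀ w, cvec ι w ∈ lineS ι b → (∀ i < 4, entry w i < 9) → outB (fstL b.1) (sndL b.1) w = false := by
    intro w hw hw9
    by_contra hout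
    simp only [Bool.not_eq_false, outB, List.any_eq_true, List.mem_range, Bool.and_eq_true, beq_iff_eq,
      bne_iff_ne] at hout
    obtain ⟨p, hp, r, hr, ⟨⟨⟨h1, h2⟩, h3⟩, h4⟩, i, hi, hne'⟩ := hout
    obtain ⟨x, y, hxy⟩ := Submodule.mem_span_pair.1 hw
    have hx : x = val9 ι (entry w p) := by
      simpa [cvec, h1, h3, val9_one, val9_zero] using congrFun hxy ⟨p, hp⟩
    have hy : y = val9 ι (entry w r) := by
      simpa [cvec, h2, h4, val9_one, val9_zero] using congrFun hxy ⟨r, hr⟩
    refine hne' (val9_injOn hι (addF_lt _ _) (hw9 i hi) ?_)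
    have := congrFun hxy ⟨i, hi⟩
    rw [Pi.add_apply, Pi.smul_apply, Pi.smul_apply, smul_eq_mul, smul_eq_mul, hx, hy,
      ← val9_combC hι] at this
    exact this
  have h := List.all_eq_true.1 (List.all_eq_true.1 lines_distinct a.1 (List.mem_range.2 a.2)) b.1
    (List.mem_range.2 b.2)
  simp only [Bool.or_eq_true, beq_iff_eq, Fin.val_inj, hne, false_or] at h
  rw [hin _ (e ▸ Submodule.subset_span (by simp)) fun i hi => (hent a i hi).1,
    hin _ (e ▸ Submodule.subset_span (by simp)) fun i hi => (hent a i hi).2] at h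
  simp at h

theorem line_moves {A : List (List ℕ)} {t : ℕ} (h : lineMoveB A t = true) {g : Cfsg.SU 4 F 3}
    (hg : suMat4 g = mat4 ι A) (j : Fin 112) :
    ∃ k : Fin 112, k.1 = app t j.1 ∧ subPerm g (lineS ι j) = lineS ι k := by
  have h := List.all_eq_true.1 h j.1 (List.mem_range.2 j.2)
  simp only [Bool.and_eq_true, Nat.blt_eq] at h
  obtain ⟨⟨⟨⟨hlt, h1⟩, h2⟩, h3⟩, h4⟩ := h
  refine ⟨⟨_, hlt⟩, rfl, ?_⟩
  show (Submodule.span F {cvec ι (fstL j.1), cvec ι (sndL j.1)}).map (suMat4 g).mulVecLin = _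
  rw [hg, Submodule.map_span, Set.image_pair, Matrix.mulVecLin_apply, Matrix.mulVecLin_apply,
    ← cvec_imgC hι, ← cvec_imgC hι]
  refine le_antisymm (Submodule.span_le.2 ?_) (Submodule.span_le.2 ?_)
  · rintro x (rfl | rfl)
    exacts [mem_span_of_inSpanB hι h1, mem_span_of_inSpanB hι h2]
  · rintro x (rfl | rfl)
    exacts [mem_span_of_inSpanB hι h3, mem_span_of_inSpanB hι h4]

variable [Fintype F] (hF : Fintype.card F = 9)
include hF

theorem psu_iso_chain : Nonempty (Cfsg.PSU 4 F 3 ≃* group 112 chain) := by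
  refine equiv_quotient_group subPerm (lineS_injective hι)
    (group_le_range _ _ _ chain_top_slp fun t ht => ?_) (fun z hz j => ?_)
    ((CfsgLib.UFourThree.card_eq hι hF).le.trans card_chain)
  · have hf := mats_facts
    simp only [Bool.and_eq_true, beq_iff_eq] at hf
    rw [qs_eq, List.mem_cons, List.mem_singleton] at ht
    rcases ht with rfl | rfl
    · obtain ⟨g, hg⟩ := exists_elt (n := 7) hι hF (by norm_num) hf.1.1.1 hf.1.1.2
      exact ⟨g, trivial, line_moves hι lineMove_ok.1 hg⟩
    · obtain ⟨g, hg⟩ := exists_elt (n := 5) hι hF (by norm_num) hf.1.2 hf.2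
      exact ⟨g, trivial, line_moves hι lineMove_ok.2 hg⟩
  · obtain ⟨r, hr⟩ := CfsgLib.Forms4.exists_scalar_of_mem_center (n := 4) (q := 3) (by rw [hF]; norm_num)
      (by norm_num) hz
    have hr0 : r ≠ 0 := fun e => by
      have h1 := (z : Matrix.SpecialLinearGroup (Fin 4) F).2
      rw [hr, e, zero_smul, Matrix.det_zero] at h1
      exact zero_ne_one h1
    show (lineS ι j).map (suMat4 z).mulVecLin = lineS ι j
    have e : (suMat4 z).mulVecLin = r • LinearMap.id := by
      refine LinearMap.ext fun v => ?_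
      rw [Matrix.mulVecLin_apply, show suMat4 z = r • 1 from hr, Matrix.smul_mulVec, Matrix.one_mulVec]
      rfl
    rw [e, Submodule.map_smul _ _ _ hr0, Submodule.map_id]

omit hι [CharP F 3] in
theorem pointStab_iso_psu : Nonempty (pointStab ≃* Cfsg.PSU 4 F 3) := by
  have : Fact (Nat.Prime 3) := ⟨by norm_num⟩
  have : CharP F 3 := charP_of_card_eq_prime_pow (f := 2) (by rw [hF]; norm_num)
  obtain ⟨ι, hι⟩ := exists_iota hF
  obtain ⟨e⟩ := pointStab_iso_chain
  obtain ⟨e'⟩ := psu_iso_chain hι hF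
  exact ⟨e.trans e'.symm⟩

end CfsgLib.Leech.U43
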